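import Mathlib

/-!
Counting fixed points of automorphisms: passage to quotients, and the size of a finite abelian
group with an endomorphism of prime period having few fixed points.
-/

set_option autoImplicit false

namespace Cfsg.Agent.Lib.AlperinFixed

section Quot

variable {G : Type*} [Group G] [Finite G]

/-- Passing to a quotient does not increase the number of fixed points. -/
theorem card_fix_quot_le (α : G →* G) (N : Subgroup G) [N.Normal] (f : G ⧸ N → G ⧸ N)
    (hf : ∀ g : G, f (QuotientGroup.mk g) = QuotientGroup.mk (α g)) :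
    Nat.card {x : G ⧸ N // f x = x} ≤ Nat.card {g : G // α g = g} := by
  classical
  let s : Set (G ⧸ N) := {x | f x = x}
  let S : Set G := (QuotientGroup.mk : G → G ⧸ N) ⁻¹' s
  have hS : Nat.card S = Nat.card N * Nat.card s := by
    rw [← Nat.card_prod]; exact Nat.card_congr (QuotientGroup.preimageMkEquivSubgroupProdSet N s)
  have hmem : ∀ g ∈ S, g⁻¹ * α g ∈ N := by
    intro g hg
    have h : (QuotientGroup.mk (α g) : G ⧸ N) = QuotientGroup.mk g := by rw [← hf]; exact hg
    exact QuotientGroup.eq.1 h.symm
  let φ : S → N := fun g => ⟨(g : G)⁻¹ * α g, hmem g g.2⟩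
  let rep : N → G := fun n => if h : ∃ g : S, φ g = n then (h.choose : G) else 1
  have hrep : ∀ g : S, (rep (φ g))⁻¹ * α (rep (φ g)) = (g : G)⁻¹ * α g := by
    intro g
    have h : ∃ g' : S, φ g' = φ g := ⟨g, rfl⟩
    simp only [rep, dif_pos h]
    exact congrArg Subtype.val h.choose_spec
  have hfx : ∀ g : S, α ((g : G) * (rep (φ g))⁻¹) = (g : G) * (rep (φ g))⁻¹ := by
    intro g
    have h1 : α (rep (φ g)) = rep (φ g) * ((g : G)⁻¹ * α g) := by rw [← hrep g]; group
    rw [map_mul, map_inv, h1]; group
  have hinj : Function.Injective (fun g : S => ((φ g, ⟨(g : G) * (rep (φ g))⁻¹, hfx g⟩) :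
      N × {g : G // α g = g})) := by
    intro a b hab
    simp only [Prod.mk.injEq, Subtype.mk.injEq] at hab
    obtain ⟨h1, h2⟩ := hab
    rw [h1] at h2
    exact Subtype.ext (mul_right_cancel h2)
  have hle := Nat.card_le_card_of_injective _ hinj
  rw [Nat.card_prod, hS] at hle
  exact Nat.le_of_mul_le_mul_left hle Nat.card_pos

end Quot

section Ab

variable {A : Type*} [AddCommGroup A] [Finite A] {p : ℕ} [hp : Fact p.Prime]

/-- An elementary abelian `p`-group with an endomorphism of period `p` with at most `F` fixed
points has at most `F ^ p` elements. -/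
theorem card_elementary_le (T : A →+ A) (hTp : ∀ x, (⇑T)^[p] x = x) (hA : ∀ x : A, p • x = 0)
    (F : ℕ) (hF : Nat.card {x : A // T x = x} ≤ F) : Nat.card A ≤ F ^ p := by
  let a : AddMonoid.End A := T
  have hpow : ∀ (k : ℕ) (x : A), (a ^ k) x = (⇑T)^[k] x := by
    intro k
    induction k with
    | zero => intro x; rfl
    | succ k ih =>
      intro x
      rw [pow_succ, AddMonoid.End.coe_mul, Function.comp_apply, Function.iterate_succ_apply]
      exact ih _
  have hp0 : (p : AddMonoid.End A) = 0 := by
    refine DFunLike.ext _ _ fun w => ?_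
    rw [AddMonoid.End.natCast_apply]
    exact hA w
  have hap : a ^ p = 1 := DFunLike.ext _ _ fun w => by rw [hpow, hTp]; rfl
  set d : AddMonoid.End A := a - 1 with hd
  have hdp : d ^ p = 0 := by
    obtain ⟨r, h1⟩ := Commute.exists_add_pow_prime_eq hp.out (Commute.one_right d)
    rw [hp0, zero_mul, zero_mul, zero_mul, add_zero, one_pow, hd, sub_add_cancel, hap] at h1
    exact (left_eq_add.mp (by rw [add_comm]; exact h1))
  have hker : ∀ k, Nat.card (AddMonoidHom.ker (d ^ k : AddMonoid.End A)) ≤ F ^ k := by
    intro k
    induction k with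
    | zero =>
      rw [pow_zero, pow_zero, show AddMonoidHom.ker (1 : AddMonoid.End A) = ⊥ from
        (AddSubgroup.eq_bot_iff_forall _).mpr fun x hx => AddMonoidHom.mem_ker.mp hx]
      simp
    | succ k ih =>
      let f : AddMonoidHom.ker (d ^ (k + 1) : AddMonoid.End A) →+
          AddMonoidHom.ker (d ^ k : AddMonoid.End A) :=
        ((d : A →+ A).comp (AddSubgroup.subtype _)).codRestrict _ fun z => by
          have h1 := AddMonoidHom.mem_ker.mp z.2
          refine AddMonoidHom.mem_ker.mpr ?_
          exact (congrArg (fun e : AddMonoid.End A => e (z : A)) (pow_succ d k).symm).trans h1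
      rw [AddSubgroup.card_eq_card_quotient_mul_card_addSubgroup f.ker, pow_succ F k]
      refine Nat.mul_le_mul ?_ ?_
      · rw [Nat.card_congr (QuotientAddGroup.quotientKerEquivRange f).toEquiv]
        exact (Nat.card_le_card_of_injective _ Subtype.val_injective).trans ih
      · refine le_trans (Nat.card_le_card_of_injective
          (fun z => (⟨((z : AddMonoidHom.ker (d ^ (k + 1) : AddMonoid.End A)) : A),
            sub_eq_zero.mp (congrArg Subtype.val (AddMonoidHom.mem_ker.mp z.2))⟩ :
              {x : A // T x = x})) ?_) hF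
        intro z z' h
        exact Subtype.ext (Subtype.ext (congrArg (fun t : {x : A // T x = x} => (t : A)) h))
  have := hker p
  rwa [hdp, show AddMonoidHom.ker (0 : AddMonoid.End A) = ⊤ from AddMonoidHom.ker_zero,
    AddSubgroup.card_top] at this

/-- An abelian group of exponent dividing `p ^ e` with an endomorphism of period `p` with at most
`F` fixed points has at most `F ^ (p * e)` elements. -/
theorem card_le_of_exponent (T : A →+ A) (hTp : ∀ x, (⇑T)^[p] x = x) (F : ℕ)
    (hF : Nat.card {x : A // T x = x} ≤ F) (e : ℕ) (hA : ∀ x : A, p ^ e • x = 0) :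
    Nat.card A ≤ F ^ (p * e) := by
  let K : ℕ → AddSubgroup A := fun k => AddMonoidHom.ker (nsmulAddMonoidHom (p ^ k) : A →+ A)
  have hK : ∀ k x, x ∈ K k ↔ p ^ k • x = 0 := fun k x => AddMonoidHom.mem_ker
  have hT1 : ∀ x ∈ K 1, T x ∈ K 1 := fun x hx => by
    rw [hK] at hx ⊢; rw [← map_nsmul, hx, map_zero]
  have h1 : Nat.card (K 1) ≤ F ^ p := by
    let T1 : K 1 →+ K 1 := (T.comp (K 1).subtype).codRestrict (K 1) fun x => hT1 x x.2
    have hit : ∀ (k : ℕ) (x : K 1), (((⇑T1)^[k] x : K 1) : A) = (⇑T)^[k] (x : A) := by
      intro k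
      induction k with
      | zero => intro x; rfl
      | succ k ih => intro x; rw [Function.iterate_succ_apply, Function.iterate_succ_apply, ih]; rfl
    refine card_elementary_le T1 (fun x => Subtype.ext ((hit p x).trans (hTp x))) ?_ F
      ((Nat.card_le_card_of_injective
        (fun z : {x : K 1 // T1 x = x} => (⟨((z : K 1) : A), congrArg Subtype.val z.2⟩ :
          {x : A // T x = x})) ?_).trans hF)
    · intro x
      exact Subtype.ext (by have := (hK 1 x).1 x.2; rwa [pow_one] at this)
    · intro z z' h
      exact Subtype.ext (Subtype.ext (congrArg (fun t : {x : A // T x = x} => (t : A)) h))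
  have hall : ∀ k, Nat.card (K k) ≤ F ^ (p * k) := by
    intro k
    induction k with
    | zero =>
      rw [show K 0 = ⊥ from (AddSubgroup.eq_bot_iff_forall _).mpr fun x hx => by
        simpa using (hK 0 x).1 hx]
      simp
    | succ k ih =>
      let f : K (k + 1) →+ K k :=
        ((nsmulAddMonoidHom p : A →+ A).comp (K (k + 1)).subtype).codRestrict _ fun z => by
          show p • (z : A) ∈ K k
          rw [hK, ← mul_nsmul, ← pow_succ']
          exact (hK _ _).1 z.2
      rw [AddSubgroup.card_eq_card_quotient_mul_card_addSubgroup f.ker, Nat.mul_succ, pow_add]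
      refine Nat.mul_le_mul ?_ ?_
      · rw [Nat.card_congr (QuotientAddGroup.quotientKerEquivRange f).toEquiv]
        exact (Nat.card_le_card_of_injective _ Subtype.val_injective).trans ih
      · refine le_trans (Nat.card_le_card_of_injective
          (fun z => (⟨((z : K (k + 1)) : A), (hK 1 _).2 (by
            rw [pow_one]
            exact congrArg Subtype.val (AddMonoidHom.mem_ker.mp z.2))⟩ : K 1)) ?_) h1
        intro z z' h
        exact Subtype.ext (Subtype.ext (congrArg (fun t : K 1 => (t : A)) h))
  have htop : K e = ⊤ := eq_top_iff.2 fun x _ => (hK e x).2 (hA x)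
  have := hall e
  rwa [htop, AddSubgroup.card_top] at this

end Ab

end Cfsg.Agent.Lib.AlperinFixed
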