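import Cfsg.Agent.Lib.LieFpf.Bound

/-!
A finite Lie ring with an automorphism of prime period `p` whose fixed points are killed by `q`:
a bounded multiple of a bounded term of the lower central series vanishes.
-/

set_option autoImplicit false

namespace Cfsg.Agent.Lib.AlperinFixed

open scoped TensorProduct
open Cfsg.Agent.Lib

variable {p : ℕ} [hp : Fact p.Prime]

variable {L : Type*} [LieRing L] [Finite L]

/-- The bound for the class. -/
def higman (p : ℕ) : ℕ := ∑ i ∈ Finset.range (2 ^ (p - 1) - 1), (p - 1) ^ i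

omit [Finite L] in
theorem nsmul_mem_iSup_eigenFam (T : L →+ L) (hTp : ∀ x, (⇑T)^[p] x = x)
    (w : LieFpf.CycRing p ⊗[ℤ] L) : (p : ℕ) • w ∈ ⨆ j, LieFpf.eigenFam (p := p) T j := by
  set T' := LinearMap.baseChange (LieFpf.CycRing p) T.toIntLinearMap with hT'
  have hpow : ∀ (n : ℕ) (r : LieFpf.CycRing p) (x : L),
      (T' ^ n) (r ⊗ₜ[ℤ] x) = r ⊗ₜ[ℤ] ((⇑T)^[n] x) := by
    intro n
    induction n with
    | zero => intro r x; rfl
    | succ n ih =>
      intro r x
      rw [pow_succ, Module.End.mul_apply, hT', LinearMap.baseChange_tmul, ← hT', ih,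
        Function.iterate_succ_apply]
      rfl
  have hperiod : T' ^ p = 1 := by
    refine LinearMap.ext fun v => ?_
    induction v using TensorProduct.induction_on with
    | zero => simp
    | add a b ha hb => rw [map_add, map_add, ha, hb]
    | tmul r x => rw [hpow, hTp]; rfl
  let f : ZMod p → Module.End (LieFpf.CycRing p) (LieFpf.CycRing p ⊗[ℤ] L) := fun a => T' ^ a.val
  have hf : ∀ a b, f (a + b) = f a * f b := by
    intro a b
    show T' ^ (a + b).val = T' ^ a.val * T' ^ b.val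
    rw [← pow_add, ZMod.val_add]
    exact (pow_eq_pow_mod _ hperiod).symm
  have hf1 : f 1 = T' := by show T' ^ (1 : ZMod p).val = T'; rw [ZMod.val_one, pow_one]
  set e : ZMod p → LieFpf.CycRing p ⊗[ℤ] L → LieFpf.CycRing p ⊗[ℤ] L :=
    fun j v => ∑ a : ZMod p, LieFpf.chi (-(j * a)) • f a v with he
  have hmem : ∀ j v, e j v ∈ LieFpf.eigenFam (p := p) T j := by
    intro j v
    show T' (e j v) = LieFpf.chi j • e j v
    simp only [he, map_sum, map_smul, Finset.smul_sum, smul_smul, ← LieFpf.chi_add]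
    rw [← Equiv.sum_comp (Equiv.addRight (1 : ZMod p))
      (fun a => LieFpf.chi (j + -(j * a)) • f a v)]
    refine Finset.sum_congr rfl fun a _ => ?_
    simp only [Equiv.coe_addRight]
    rw [show j + -(j * (a + 1)) = -(j * a) by ring, add_comm a 1, hf, hf1, Module.End.mul_apply]
  have hsum : ∑ j : ZMod p, e j w = p • w := by
    simp only [he]
    rw [Finset.sum_comm, Finset.sum_eq_single (0 : ZMod p)]
    · simp [LieFpf.chi_zero, f, ZMod.card, Finset.sum_const, Finset.card_univ]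
    · intro a _ ha
      rw [← Finset.sum_smul]
      have : ∑ j : ZMod p, LieFpf.chi (-(j * a)) = 0 := by
        rw [← LieFpf.sum_chi (p := p)]
        exact Equiv.sum_comp ((Equiv.mulRight₀ a ha).trans (Equiv.neg (ZMod p))) LieFpf.chi
      rw [this, zero_smul]
    · exact fun h => absurd (Finset.mem_univ _) h
  rw [← hsum]
  exact AddSubgroup.sum_mem _ fun j _ => le_iSup (LieFpf.eigenFam (p := p) T) j (hmem j w)

/-- The `i`-th coordinate with respect to the power basis of the coefficient ring. -/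
noncomputable def coord (p : ℕ) [Fact p.Prime] (L : Type*) [AddCommGroup L]
    (i : Fin (AdjoinRoot.powerBasis' (Polynomial.cyclotomic.monic p ℤ)).dim) :
    LieFpf.CycRing p ⊗[ℤ] L →+ L :=
  let π : LieFpf.CycRing p →ₗ[ℤ] ℤ :=
    ((AdjoinRoot.powerBasis' (Polynomial.cyclotomic.monic p ℤ)).basis.coord
      i).toAddMonoidHom.toIntLinearMap
  (TensorProduct.lid ℤ L).toAddMonoidHom.comp (LinearMap.rTensor L π).toAddMonoidHom

theorem coord_tmul (p : ℕ) [Fact p.Prime] {L : Type*} [AddCommGroup L]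
    (i : Fin (AdjoinRoot.powerBasis' (Polynomial.cyclotomic.monic p ℤ)).dim)
    (r : LieFpf.CycRing p) (x : L) : coord p L i (r ⊗ₜ[ℤ] x) =
      (AdjoinRoot.powerBasis' (Polynomial.cyclotomic.monic p ℤ)).basis.repr r i • x := by
  simp [coord]

omit [Finite L] in
theorem nsmul_eigenFam_zero (T : L →+ L) {q : ℕ} (hq : ∀ x, T x = x → q • x = 0)
    {v : LieFpf.CycRing p ⊗[ℤ] L} (hv : v ∈ LieFpf.eigenFam (p := p) T 0) : q • v = 0 := by
  have hv' : LinearMap.baseChange (LieFpf.CycRing p) T.toIntLinearMap v =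
      LieFpf.chi (0 : ZMod p) • v := hv
  rw [LieFpf.chi_zero, one_smul] at hv'
  have hcomm : ∀ w i, coord p L i (LinearMap.baseChange (LieFpf.CycRing p) T.toIntLinearMap w) =
      T (coord p L i w) := by
    intro w
    induction w using TensorProduct.induction_on with
    | zero => intro i; simp
    | add a b ha hb => intro i; simp only [map_add, ha, hb]
    | tmul r x =>
      intro i
      rw [LinearMap.baseChange_tmul, coord_tmul, coord_tmul, map_zsmul]
      rfl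
  set b := (AdjoinRoot.powerBasis' (Polynomial.cyclotomic.monic p ℤ)).basis with hb
  have hrec : ∀ w : LieFpf.CycRing p ⊗[ℤ] L, w = ∑ i, b i ⊗ₜ[ℤ] coord p L i w := by
    intro w
    induction w using TensorProduct.induction_on with
    | zero => simp
    | add x y hx hy => simp only [map_add, TensorProduct.tmul_add, Finset.sum_add_distrib, ← hx, ← hy]
    | tmul r x =>
      simp only [coord_tmul, ← hb, ← TensorProduct.smul_tmul, ← TensorProduct.sum_tmul]
      conv_lhs => rw [← b.sum_repr r]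
  rw [hrec v, Finset.smul_sum]
  refine Finset.sum_eq_zero fun i _ => ?_
  rw [← TensorProduct.tmul_smul, hq _ (by rw [← hcomm, hv']), TensorProduct.tmul_zero]

omit hp [Finite L] in
theorem lie_nsmul_nsmul {M : Type*} [LieRing M] (a b : ℕ) (x y : M) :
    ⁅a • x, b • y⁆ = (a * b) • ⁅x, y⁆ := by
  rw [nsmul_lie, lie_nsmul, ← mul_nsmul']

/-- The eigen-family multiplied by `q`. -/
noncomputable def scaledFam (T : L →+ L) (q : ℕ) (j : ZMod p) :
    AddSubgroup (LieFpf.CycRing p ⊗[ℤ] L) :=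
  (LieFpf.eigenFam (p := p) T j).map (nsmulAddMonoidHom q)

theorem isClosedFam_scaledFam (T : L →+ L) (hT : ∀ x y, T ⁅x, y⁆ = ⁅T x, T y⁆) (q : ℕ) :
    LieFpf.IsClosedFam (scaledFam (p := p) T q) := by
  rintro i j _ ⟨a, ha, rfl⟩ _ ⟨b, hb, rfl⟩
  refine ⟨q • ⁅a, b⁆, AddSubgroup.nsmul_mem _ (LieFpf.isClosedFam_eigenFam T hT i j a ha b hb) q, ?_⟩
  show q • q • ⁅a, b⁆ = ⁅q • a, q • b⁆
  rw [lie_nsmul_nsmul, mul_nsmul']

omit [Finite L] in
theorem scaledFam_zero (T : L →+ L) {q : ℕ} (hq : ∀ x, T x = x → q • x = 0) :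
    scaledFam (p := p) T q 0 = ⊥ := by
  rw [eq_bot_iff]
  rintro _ ⟨a, ha, rfl⟩
  exact AddSubgroup.mem_bot.2 (nsmul_eigenFam_zero T hq ha)

omit hp [Finite L] in
theorem nsmul_lieLcs_mem {M : Type*} [LieRing M] {E : ZMod p → AddSubgroup M} {k : ℕ}
    (hspan : ∀ w : M, k • w ∈ ⨆ j, E j) :
    ∀ n, ∀ x ∈ LieFpf.lieLcs M n, k ^ (n + 1) • x ∈ ⨆ d, LieFpf.lcf E n d := by
  intro n
  induction n with
  | zero => intro x _; rw [zero_add, pow_one]; exact hspan x
  | succ n ih =>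
    intro x hx
    have hle : LieFpf.lieLcs M (n + 1) ≤ (⨆ d, LieFpf.lcf E (n + 1) d).comap
        (nsmulAddMonoidHom (k ^ (n + 2))) := by
      refine LieFpf.bk_le fun a ha b _ => ?_
      show k ^ (n + 2) • ⁅a, b⁆ ∈ (⨆ d, LieFpf.lcf E (n + 1) d)
      rw [pow_succ k (n + 1), ← lie_nsmul_nsmul]
      have hb' := hspan b
      refine LieFpf.lie_mem_of_mem_iSup_left (fun i u hu => ?_) (ih a ha)
      generalize k • b = y at hb' ⊢
      induction hb' using AddSubgroup.iSup_induction' with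
      | hp j v hv =>
        refine le_iSup (fun d => LieFpf.lcf E (n + 1) d) (i + j)
          (le_iSup (fun t => LieFpf.bk (LieFpf.lcf E n t) (E (i + j - t))) i
            (LieFpf.lie_mem_bk hu ?_))
        rwa [add_sub_cancel_left]
      | h1 => rw [lie_zero]; exact zero_mem _
      | hadd x y _ _ h1 h2 => rw [lie_add]; exact add_mem h1 h2
    exact hle hx

omit hp [Finite L] in
theorem one_tmul_mem_lieLcs : ∀ m, ∀ x ∈ LieFpf.lieLcs L m,
    (1 : LieFpf.CycRing p) ⊗ₜ[ℤ] x ∈ LieFpf.lieLcs (LieFpf.CycRing p ⊗[ℤ] L) m := by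
  intro m
  induction m with
  | zero => intro x _; trivial
  | succ m ih =>
    intro x hx
    have hle : LieFpf.lieLcs L (m + 1) ≤ (LieFpf.lieLcs (LieFpf.CycRing p ⊗[ℤ] L) (m + 1)).comap
        ((TensorProduct.mk ℤ (LieFpf.CycRing p) L 1).toAddMonoidHom) := by
      refine LieFpf.bk_le fun a ha b _ => ?_
      show (1 : LieFpf.CycRing p) ⊗ₜ[ℤ] ⁅a, b⁆ ∈
        LieFpf.lieLcs (LieFpf.CycRing p ⊗[ℤ] L) (m + 1)
      have e : ⁅(1 : LieFpf.CycRing p) ⊗ₜ[ℤ] a, (1 : LieFpf.CycRing p) ⊗ₜ[ℤ] b⁆ =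
          (1 : LieFpf.CycRing p) ⊗ₜ[ℤ] ⁅a, b⁆ := by
        rw [LieAlgebra.ExtendScalars.bracket_tmul, one_mul]
      rw [← e]
      exact LieFpf.lie_mem_bk (ih a ha) (AddSubgroup.mem_top _)
    exact hle hx

omit [Finite L] in
theorem nsmul_mem_iSup_scaledFam (T : L →+ L) (hTp : ∀ x, (⇑T)^[p] x = x) (q : ℕ)
    (w : LieFpf.CycRing p ⊗[ℤ] L) : (q * p) • w ∈ ⨆ j, scaledFam (p := p) T q j := by
  have hv : ∀ m : LieFpf.CycRing p ⊗[ℤ] L, m ∈ (⨆ j, LieFpf.eigenFam (p := p) T j) →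
      q • m ∈ ⨆ j, scaledFam (p := p) T q j := by
    intro m hm
    induction hm using AddSubgroup.iSup_induction' with
    | hp j y hy => exact AddSubgroup.mem_iSup_of_mem j (AddSubgroup.mem_map_of_mem _ hy)
    | h1 => rw [nsmul_zero]; exact zero_mem _
    | hadd x y _ _ h1 h2 => rw [nsmul_add]; exact add_mem h1 h2
  rw [mul_nsmul']
  exact hv _ (nsmul_mem_iSup_eigenFam T hTp w)

omit [Finite L] in
theorem eq_zero_of_one_tmul {k : ℕ} {x : L}
    (h : k • ((1 : LieFpf.CycRing p) ⊗ₜ[ℤ] x) = 0) : k • x = 0 := by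
  let pb := AdjoinRoot.powerBasis' (Polynomial.cyclotomic.monic p ℤ)
  have hdim : 0 < pb.dim := by
    show 0 < (Polynomial.cyclotomic p ℤ).natDegree
    rw [Polynomial.natDegree_cyclotomic]
    exact Nat.totient_pos.2 hp.out.pos
  have hb : pb.basis ⟨0, hdim⟩ = 1 := by rw [pb.basis_eq_pow, pow_zero]
  have h3 : pb.basis.repr 1 ⟨0, hdim⟩ = 1 := by
    rw [← hb, Module.Basis.repr_self, Finsupp.single_eq_same]
  have h2 := congrArg (coord p L ⟨0, hdim⟩) h
  rwa [map_nsmul, map_zero, coord_tmul, h3, one_smul] at h2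

theorem lcf_scaledFam_eq_bot (T : L →+ L) (hT : ∀ x y, T ⁅x, y⁆ = ⁅T x, T y⁆)
    {q : ℕ} (hq : ∀ x, T x = x → q • x = 0) (d : ZMod p) :
    LieFpf.lcf (scaledFam (p := p) T q) (higman p) d = ⊥ :=
  le_bot_iff.1 (LieFpf.lcf_le_of_der_le (isClosedFam_scaledFam T hT q) (scaledFam_zero T hq) _ _
    (LieFpf.isIdealFam_bot _)
    (fun e => (LieFpf.der_eq_bot (isClosedFam_scaledFam T hT q) (scaledFam_zero T hq) e).le) d)

omit [Finite L] in
theorem nsmul_eq_zero_of_lcf (T : L →+ L) (hTp : ∀ x, (⇑T)^[p] x = x) (q n : ℕ)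
    (hbot : ∀ d, LieFpf.lcf (scaledFam (p := p) T q) n d = ⊥)
    {x : L} (hx : x ∈ LieFpf.lieLcs L n) : (q * p) ^ (n + 1) • x = 0 := by
  have h1 := nsmul_lieLcs_mem (nsmul_mem_iSup_scaledFam T hTp q) n _ (one_tmul_mem_lieLcs n x hx)
  have h0 : (⨆ d, LieFpf.lcf (scaledFam (p := p) T q) n d) = ⊥ := iSup_eq_bot.2 hbot
  rw [h0, AddSubgroup.mem_bot] at h1
  exact eq_zero_of_one_tmul h1

/-- Higman's theorem with fixed points killed by `q`. -/
theorem nsmul_lieLcs_eq_zero (T : L →+ L) (hT : ∀ x y, T ⁅x, y⁆ = ⁅T x, T y⁆)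
    (hTp : ∀ x, (⇑T)^[p] x = x) {q : ℕ} (hq : ∀ x, T x = x → q • x = 0)
    {x : L} (hx : x ∈ LieFpf.lieLcs L (higman p)) : (q * p) ^ (higman p + 1) • x = 0 :=
  nsmul_eq_zero_of_lcf T hTp q (higman p) (lcf_scaledFam_eq_bot T hT hq) hx

end Cfsg.Agent.Lib.AlperinFixed
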