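import Cfsg.Agent.Lib.AlperinFixed.Count
import Cfsg.Agent.Lib.AlperinFixed.Lie
import Cfsg.Agent.S3781

/-!
Alperin's theorem for `p`-groups: an automorphism of period `p` with at most `p ^ n` fixed points
bounds the derived length in terms of `p` and `n`.
-/

set_option autoImplicit false

namespace Cfsg.Agent.Lib.AlperinFixed

open Cfsg.Agent.Lib

section Restr

variable {G : Type*} [Group G]

/-- The restriction of an automorphism to a characteristic subgroup. -/
def restrictAut (α : MulAut G) (N : Subgroup G) [hN : N.Characteristic] : MulAut N where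
  toFun x := ⟨α x, Subgroup.characteristic_iff_map_le.1 hN α ⟨x, x.2, rfl⟩⟩
  invFun x := ⟨α.symm x, Subgroup.characteristic_iff_map_le.1 hN α.symm ⟨x, x.2, rfl⟩⟩
  left_inv x := Subtype.ext (α.symm_apply_apply x)
  right_inv x := Subtype.ext (α.apply_symm_apply x)
  map_mul' x y := Subtype.ext (map_mul α (x : G) y)

theorem coe_restrictAut (α : MulAut G) (N : Subgroup G) [N.Characteristic] (x : N) :
    ((restrictAut α N x : N) : G) = α x := rfl

theorem restrictAut_pow (α : MulAut G) (N : Subgroup G) [N.Characteristic] (k : ℕ) :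
    (restrictAut α N) ^ k = restrictAut (α ^ k) N := by
  induction k with
  | zero => exact MulEquiv.ext fun x => rfl
  | succ k ih =>
    refine MulEquiv.ext fun x => Subtype.ext ?_
    rw [pow_succ, MulAut.mul_apply, ih, coe_restrictAut, coe_restrictAut, coe_restrictAut, pow_succ,
      MulAut.mul_apply]

theorem restrictAut_pow_eq_one {α : MulAut G} {k : ℕ} (h : α ^ k = 1) (N : Subgroup G)
    [N.Characteristic] : (restrictAut α N) ^ k = 1 := by
  rw [restrictAut_pow, h]; exact MulEquiv.ext fun x => rfl

theorem card_fix_restrictAut_le [Finite G] (α : MulAut G) (N : Subgroup G) [N.Characteristic] :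
    Nat.card {x : N // restrictAut α N x = x} ≤ Nat.card {g : G // α g = g} := by
  refine Nat.card_le_card_of_injective (fun z => ⟨((z : N) : G), congrArg Subtype.val z.2⟩) ?_
  intro z z' h
  exact Subtype.ext (Subtype.ext (congrArg (fun t : {g : G // α g = g} => (t : G)) h))

theorem pow_apply_iterate (α : MulAut G) : ∀ (k : ℕ) (x : G), (⇑α)^[k] x = (α ^ k) x
  | 0, _ => rfl
  | k + 1, x => by rw [Function.iterate_succ_apply', pow_apply_iterate α k, pow_succ', MulAut.mul_apply]

end Restr

variable {p : ℕ} [hp : Fact p.Prime]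

variable {P : Type*} [Group P] [Finite P]

/-- Exponent of the bottom layer that matters. -/
def expBound (p n : ℕ) : ℕ := (n * (higman p + 1) + 1) * (higman p + 1)

/-- The depth from which the derived series has bounded class. -/
def depth (p n : ℕ) : ℕ := n * (p * expBound p n) + 1

omit [Finite P] in
theorem glieMap_iterate (α : MulAut P) {c : ℕ} : ∀ (m : ℕ) (x : LieFpf.GLie P c),
    (⇑(LieFpf.glieMap (c := c) α.toMonoidHom))^[m] x = LieFpf.glieMap (α ^ m).toMonoidHom x
  | 0, x => (LieFpf.glieMap_id x).symm
  | m + 1, x => by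
    rw [Function.iterate_succ_apply', glieMap_iterate α m, ← LieFpf.glieMap_comp, pow_succ']
    rfl

theorem card_fix_layerMap_le (α : MulAut P) (k : ℕ) :
    Nat.card {x : LieFpf.Layer P k // LieFpf.layerMap α.toMonoidHom k x = x} ≤
      Nat.card {g : P // α g = g} := by
  have : (LieFpf.gam P k).Characteristic := inferInstance
  refine le_trans ?_ (card_fix_restrictAut_le α (LieFpf.gam P k))
  exact card_fix_quot_le (G := LieFpf.gam P k) (restrictAut α (LieFpf.gam P k)).toMonoidHom
    ((LieFpf.gam P (k + 1)).subgroupOf (LieFpf.gam P k))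
    (fun x => Additive.toMul (LieFpf.layerMap α.toMonoidHom k (Additive.ofMul x))) (fun g => rfl)

/-- The layer at the Higman bound is small. -/
theorem card_layer_le (hP : IsPGroup p P) (α : MulAut P) (hα : α ^ p = 1) (n : ℕ)
    (hfix : Nat.card {g : P // α g = g} ≤ p ^ n) :
    Nat.card (LieFpf.Layer P (higman p)) ≤ p ^ (n * (p * expBound p n)) := by
  classical
  set h := higman p with hh
  set c := h + 1 with hc
  let T : LieFpf.GLie P c →+ LieFpf.GLie P c := LieFpf.glieMap α.toMonoidHom
  haveI : Finite (LieFpf.GLie P c) := inferInstanceAs (Finite ((k : Fin c) → LieFpf.Layer P k))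
  have hTp : ∀ x, (⇑T)^[p] x = x := fun x => by
    show (⇑(LieFpf.glieMap (c := c) α.toMonoidHom))^[p] x = x
    rw [glieMap_iterate, hα]; exact LieFpf.glieMap_id x
  -- the fixed points are killed by `p ^ (n * c)`
  have hq : ∀ x, T x = x → p ^ (n * c) • x = 0 := by
    intro x hx
    refine LieFpf.GLie.ext fun k => ?_
    show p ^ (n * c) • x k = 0
    have hk : LieFpf.layerMap α.toMonoidHom k (x k) = x k := congrFun hx k
    let F : AddSubgroup (LieFpf.Layer P k) :=
      { carrier := {y | LieFpf.layerMap α.toMonoidHom k y = y}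
        zero_mem' := map_zero _
        add_mem' := fun {a b} ha hb => by
          show LieFpf.layerMap α.toMonoidHom k (a + b) = a + b
          rw [map_add]; exact congrArg₂ (· + ·) ha hb
        neg_mem' := fun {a} ha => by
          show LieFpf.layerMap α.toMonoidHom k (-a) = -a
          rw [map_neg]; exact congrArg Neg.neg ha }
    have hFle : Nat.card F ≤ p ^ n := (card_fix_layerMap_le α k).trans hfix
    obtain ⟨N, hN⟩ := IsPGroup.iff_card.1 hP
    have hdvd : Nat.card F ∣ p ^ N := hN ▸ ((AddSubgroup.card_addSubgroup_dvd_card F).trans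
      ((Subgroup.card_quotient_dvd_card _).trans (Subgroup.card_subgroup_dvd_card _)))
    obtain ⟨j, -, hj⟩ := (Nat.dvd_prime_pow hp.out).1 hdvd
    have hjn : j ≤ n * c := by
      have h1 : p ^ j ≤ p ^ n := hj ▸ hFle
      exact ((Nat.pow_le_pow_iff_right hp.out.one_lt).1 h1).trans (Nat.le_mul_of_pos_right n (by omega))
    have h2 : p ^ j • x k = 0 := by
      have := congrArg Subtype.val (card_nsmul_eq_zero' (G := F) (x := ⟨x k, hk⟩))
      rwa [hj] at this
    obtain ⟨d, hd⟩ := Nat.exists_eq_add_of_le hjn
    rw [hd, pow_add, mul_nsmul, h2, nsmul_zero]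
  -- exponent of the layer
  have hexp : ∀ y : LieFpf.Layer P h, p ^ expBound p n • y = 0 := by
    intro y
    obtain ⟨g, hg, rfl⟩ := LieFpf.lay_surjective h y
    have h1 := nsmul_lieLcs_eq_zero T (LieFpf.glieMap_lie _) hTp hq
      (LieFpf.emb_mem_lieLcs (c := c) h (Nat.lt_succ_self h) g hg)
    rw [← map_nsmul, ← pow_succ, ← pow_mul] at h1
    have h2 := congrFun h1 ⟨h, Nat.lt_succ_self h⟩
    rw [LieFpf.emb_same] at h2
    exact h2
  let T1 : LieFpf.Layer P h →+ LieFpf.Layer P h := LieFpf.layerMap α.toMonoidHom h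
  have hT1p : ∀ y, (⇑T1)^[p] y = y := by
    intro y
    obtain ⟨g, hg, rfl⟩ := LieFpf.lay_surjective h y
    have : ∀ (m : ℕ), ∃ hm : (α ^ m) g ∈ LieFpf.gam P h,
        (⇑T1)^[m] (LieFpf.lay h g hg) = LieFpf.lay h ((α ^ m) g) hm := by
      intro m
      induction m with
      | zero => exact ⟨hg, rfl⟩
      | succ m ih =>
        obtain ⟨hm, e⟩ := ih
        have hm' : (α ^ (m + 1)) g ∈ LieFpf.gam P h := by
          rw [pow_succ', MulAut.mul_apply]; exact LieFpf.map_mem_gam α.toMonoidHom hm
        refine ⟨hm', ?_⟩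
        rw [Function.iterate_succ_apply', e]
        exact LieFpf.lay_mem_eq (by rw [pow_succ', MulAut.mul_apply]; rfl) _ _
    obtain ⟨hm, e⟩ := this p
    rw [e]
    exact LieFpf.lay_mem_eq (by rw [hα]; rfl) _ _
  have hfin := card_le_of_exponent T1 hT1p (p ^ n) ((card_fix_layerMap_le α h).trans hfix)
    (expBound p n) hexp
  rwa [← pow_mul] at hfin

theorem one_le_higman : 1 ≤ higman p := by
  have h2 : 2 ^ 1 ≤ 2 ^ (p - 1) := Nat.pow_le_pow_right (by norm_num) (by have := hp.out.two_le; omega)
  have hmem : 0 ∈ Finset.range (2 ^ (p - 1) - 1) := Finset.mem_range.2 (by omega)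
  simpa [higman] using Finset.single_le_sum (f := fun i => (p - 1) ^ i) (fun _ _ => Nat.zero_le _) hmem

/-- Alperin's bound for `p`-groups. -/
theorem derivedSeries_eq_bot_of_isPGroup (hP : IsPGroup p P) (α : MulAut P) (hα : α ^ p = 1)
    (n : ℕ) (hfix : Nat.card {g : P // α g = g} ≤ p ^ n) :
    derivedSeries P (depth p n + (higman p + 1)) = ⊥ := by
  set s := depth p n with hs
  set h := higman p with hh
  set N := derivedSeries P s with hN
  haveI : N.Normal := derivedSeries_normal _ _
  have hNle : N ≤ (⊤ : Subgroup P).lowerCentralSeries (s - 1) :=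
    (Subgroup.derived_le_lower_central s).trans (Subgroup.lowerCentralSeries_antitone _ (Nat.sub_le s 1))
  have hstep : ∀ b, derivedSeries P (s + b) ≤ N.lowerCentralSeries b := by
    intro b
    induction b with
    | zero => exact le_rfl
    | succ b ih =>
      rw [← add_assoc, derivedSeries_succ, Subgroup.lowerCentralSeries_succ]
      exact Subgroup.commutator_mono ih (derivedSeries_antitone P (Nat.le_add_right s b))
  refine le_bot_iff.1 ((hstep (h + 1)).trans (le_of_eq ?_))
  by_contra hne
  have hbig := S3781.result hP s (by rw [hs, depth]; omega) N hNle (h + 1)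
    (by have := one_le_higman (p := p); omega) hne
  rw [Nat.add_sub_cancel] at hbig
  have hsmall := card_layer_le (hP.to_subgroup N) (restrictAut α N) (restrictAut_pow_eq_one hα N) n
    ((card_fix_restrictAut_le α N).trans hfix)
  have heq : Nat.card (LieFpf.Layer N h) =
      (N.lowerCentralSeries (h + 1)).relIndex (N.lowerCentralSeries h) := by
    rw [← Subgroup.top_subtype_lowerCentralSeries N (h + 1), ← Subgroup.top_subtype_lowerCentralSeries N h,
      Subgroup.relIndex_map_map_of_injective _ _ N.subtype_injective]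
    rfl
  rw [heq] at hsmall
  have := (Nat.pow_le_pow_iff_right hp.out.one_lt).1 (hbig.trans hsmall)
  rw [hs, depth] at this
  omega

end Cfsg.Agent.Lib.AlperinFixed
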