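import Cfsg.Agent.Lib.AlperinFixed.PGroup
import Cfsg.Agent.Lib.SolvableCore.Basic
import Cfsg.Agent.Lib.RankTwoAut.Essential
import Cfsg.Agent.Lib.PGroup.Frattini
import Cfsg.Agent.S3779

/-!
Alperin's theorem: a finite solvable group with an automorphism of period `p` having `p ^ n` fixed
points has bounded derived length.
-/

set_option autoImplicit false

namespace Cfsg.Agent.Lib.AlperinFixed

open scoped commutatorElement

open Cfsg.Agent.Lib

variable {G : Type*} [Group G]

theorem derivedSeries_add_eq_bot (N : Subgroup G) {a b : ℕ} (ha : derivedSeries G a ≤ N)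
    (hb : derivedSeries N b = ⊥) : derivedSeries G (a + b) = ⊥ := by
  have h : ∀ j, derivedSeries G (a + j) ≤ (derivedSeries N j).map N.subtype := by
    intro j
    induction j with
    | zero => rw [derivedSeries_zero, ← MonoidHom.range_eq_map, Subgroup.range_subtype]; exact ha
    | succ j ih =>
      rw [← add_assoc, derivedSeries_succ, derivedSeries_succ, Subgroup.map_commutator]
      exact Subgroup.commutator_mono ih ih
  have := h b
  rwa [hb, Subgroup.map_bot, le_bot_iff] at this

theorem derivedSeries_card_eq_bot [Finite G] (hs : Group.IsSolvable G) :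
    derivedSeries G (Nat.card G) = ⊥ := by
  obtain ⟨k, hk⟩ := (Group.isSolvable_def G).1 hs
  have h : ∀ j, derivedSeries G j = ⊥ ∨ Nat.card (derivedSeries G j) + j ≤ Nat.card G := by
    intro j
    induction j with
    | zero => exact Or.inr (by simpa using Subgroup.card_le_card_group (derivedSeries G 0))
    | succ j ih =>
      rcases ih with h0 | h0
      · exact Or.inl (le_bot_iff.1 (h0 ▸ derivedSeries_antitone G (Nat.le_succ j)))
      · by_cases hj : derivedSeries G j = ⊥
        · exact Or.inl (le_bot_iff.1 (hj ▸ derivedSeries_antitone G (Nat.le_succ j)))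
        · refine Or.inr ?_
          have hlt : derivedSeries G (j + 1) < derivedSeries G j := by
            refine lt_of_le_of_ne (derivedSeries_antitone G (Nat.le_succ j)) fun he => hj ?_
            have hc : ∀ m, derivedSeries G (j + m) = derivedSeries G j := by
              intro m
              induction m with
              | zero => rfl
              | succ m ihm => rw [← add_assoc, derivedSeries_succ, ihm, ← derivedSeries_succ, he]
            rw [← hc k, eq_bot_iff, ← hk]
            exact derivedSeries_antitone G (Nat.le_add_left k j)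
          have := Set.Finite.card_lt_card (Set.toFinite (derivedSeries G j : Set G))
            (SetLike.coe_ssubset_coe.2 hlt)
          simp only [SetLike.coe_sort_coe] at this
          omega
  rcases h (Nat.card G) with h0 | h0
  · exact h0
  · exfalso
    have : 0 < Nat.card (derivedSeries G (Nat.card G)) := Nat.card_pos
    omega

/-- The automorphism induced on the quotient by a characteristic subgroup. -/
noncomputable def quotAut (α : MulAut G) (N : Subgroup G) [N.Normal] [hN : N.Characteristic] :
    MulAut (G ⧸ N) :=
  QuotientGroup.congr N N α (Subgroup.characteristic_iff_map_eq.1 hN α)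

theorem quotAut_mk (α : MulAut G) (N : Subgroup G) [N.Normal] [N.Characteristic] (g : G) :
    quotAut α N (QuotientGroup.mk g) = QuotientGroup.mk (α g) := rfl

theorem quotAut_pow_eq_one {α : MulAut G} {k : ℕ} (h : α ^ k = 1) (N : Subgroup G) [N.Normal]
    [N.Characteristic] : (quotAut α N) ^ k = 1 := by
  have hk : ∀ j g, ((quotAut α N) ^ j) (QuotientGroup.mk g) = QuotientGroup.mk ((α ^ j) g) := by
    intro j
    induction j with
    | zero => intro g; rfl
    | succ j ih => intro g; rw [pow_succ, MulAut.mul_apply, quotAut_mk, ih, pow_succ, MulAut.mul_apply]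
  refine MulEquiv.ext fun x => ?_
  induction x using QuotientGroup.induction_on with
  | H g => rw [hk, h]; rfl

variable {p : ℕ} [hp : Fact p.Prime]

/-- The bound in the core-free case. -/
def coreFreeBound (p n : ℕ) : ℕ := ((p ^ n) ^ p).factorial + (depth p n + (higman p + 1))

theorem derivedSeries_eq_bot_of_coreFree [Finite G] (hs : Group.IsSolvable G)
    (hO : Cfsg.pPrimeCore p G = ⊥) (α : MulAut G) (hα : α ^ p = 1) (n : ℕ)
    (hfix : Nat.card {g : G // α g = g} ≤ p ^ n) : derivedSeries G (coreFreeBound p n) = ⊥ := by
  classical
  haveI := hs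
  haveI := PSolvable.pCore_characteristic (p := p) (G := G)
  set P := Cfsg.pCore p G with hPdef
  have hP : IsPGroup p P := PSolvable.pCore_isPGroup
  set β := restrictAut α P with hβ
  have hβp : β ^ p = 1 := restrictAut_pow_eq_one hα P
  have hβfix : Nat.card {x : P // β x = x} ≤ p ^ n := (card_fix_restrictAut_le α P).trans hfix
  -- the Frattini quotient is small
  have hab : ∀ a b : P ⧸ frattini P, a * b = b * a := by
    intro a b
    induction a using QuotientGroup.induction_on with
    | H a =>
    induction b using QuotientGroup.induction_on with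
    | H b =>
    refine commutatorElement_eq_one_iff_mul_comm.1 ?_
    show ⁅QuotientGroup.mk' (frattini P) a, QuotientGroup.mk' (frattini P) b⁆ = 1
    rw [← map_commutatorElement]
    exact (QuotientGroup.eq_one_iff _).2
      (PFrattini.commutator_le_frattini hP (Subgroup.commutator_mem_commutator trivial trivial))
  have hpow : ∀ a : P ⧸ frattini P, a ^ p = 1 := by
    intro a
    induction a using QuotientGroup.induction_on with
    | H a => exact (QuotientGroup.eq_one_iff _).2 (PFrattini.pow_mem_frattini hP a)
  letI : CommGroup (P ⧸ frattini P) :=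
    { (inferInstance : Group (P ⧸ frattini P)) with mul_comm := hab }
  let T : Additive (P ⧸ frattini P) →+ Additive (P ⧸ frattini P) :=
    MonoidHom.toAdditive (quotAut β (frattini P)).toMonoidHom
  have hcard : Nat.card (P ⧸ frattini P) ≤ (p ^ n) ^ p := by
    refine card_elementary_le (A := Additive (P ⧸ frattini P)) T ?_ (fun x => hpow (Additive.toMul x))
      (p ^ n) ?_
    · intro x
      have hit : ∀ k, (⇑T)^[k] x =
          Additive.ofMul (((quotAut β (frattini P)) ^ k) (Additive.toMul x)) := by
        intro k
        induction k with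
        | zero => rfl
        | succ k ih => rw [Function.iterate_succ_apply', ih, pow_succ']; rfl
      rw [hit, quotAut_pow_eq_one hβp]; rfl
    · exact (card_fix_quot_le β.toMonoidHom (frattini P) (quotAut β (frattini P))
        (fun g => rfl)).trans hβfix
  -- the action on the Frattini quotient
  let φ : G →* MulAut (P ⧸ frattini P) :=
    { toFun := fun g => quotAut (MulAut.conjNormal g) (frattini P)
      map_one' := by
        refine MulEquiv.ext fun x => ?_
        induction x using QuotientGroup.induction_on with
        | H a => rw [quotAut_mk, map_one]; rfl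
      map_mul' := fun g g' => by
        refine MulEquiv.ext fun x => ?_
        induction x using QuotientGroup.induction_on with
        | H a => rw [MulAut.mul_apply, quotAut_mk, quotAut_mk, quotAut_mk, map_mul, MulAut.mul_apply] }
  have hker : φ.ker ≤ P := by
    haveI : Finite (MulAut P) := Finite.of_injective (fun e : MulAut P => (e : P → P))
      DFunLike.coe_injective
    have h1 : IsPGroup p (φ.ker.map (MulAut.conjNormal : G →* MulAut P)) := by
      refine RankTwoAut.isPGroup_of_trivial_on_frattini hP _ ?_
      rintro _ ⟨g, hg, rfl⟩ x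
      have h2 : φ g (QuotientGroup.mk x) = (QuotientGroup.mk x : P ⧸ frattini P) := by
        rw [(MonoidHom.mem_ker.1 hg : φ g = 1)]; rfl
      exact QuotientGroup.eq.1 h2.symm
    have hC := SolvableCore.centralizer_pCore_le hs hO
    have hp' : IsPGroup p φ.ker := by
      intro g
      obtain ⟨k, hk⟩ := h1 ⟨MulAut.conjNormal (g : G), Subgroup.mem_map_of_mem _ g.2⟩
      have hk' : (MulAut.conjNormal ((g : G) ^ p ^ k) : MulAut P) = 1 := by
        rw [map_pow]; exact congrArg Subtype.val hk
      have hmem : (g : G) ^ p ^ k ∈ P := hC (Subgroup.mem_centralizer_iff.2 fun x hx => by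
        have := congrArg (fun e : MulAut P => ((e ⟨x, hx⟩ : P) : G)) hk'
        simp only [MulAut.conjNormal_apply, MulAut.one_apply] at this
        exact (mul_inv_eq_iff_eq_mul.1 this).symm)
      obtain ⟨l, hl⟩ := hP ⟨_, hmem⟩
      refine ⟨k + l, Subtype.ext ?_⟩
      rw [Subgroup.coe_pow, pow_add, pow_mul]
      exact congrArg Subtype.val hl
    exact PSolvable.le_pCore hp'
  haveI : Finite (MulAut (P ⧸ frattini P)) :=
    Finite.of_injective (fun e : MulAut (P ⧸ frattini P) => (e : P ⧸ frattini P → P ⧸ frattini P))
      DFunLike.coe_injective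
  have hR : Nat.card φ.range ≤ ((p ^ n) ^ p).factorial := by
    refine (Nat.card_le_card_of_injective
      (fun e : φ.range => (e : MulAut (P ⧸ frattini P)).toEquiv) ?_).trans ?_
    · intro e e' h
      exact Subtype.ext (MulEquiv.ext fun x => congrArg (fun f : Equiv.Perm _ => f x) h)
    · rw [Nat.card_perm]; exact Nat.factorial_le hcard
  haveI : Group.IsSolvable φ.range := Group.isSolvable_of_surjective φ.rangeRestrict_surjective
  have hB : derivedSeries φ.range ((p ^ n) ^ p).factorial = ⊥ :=
    le_bot_iff.1 ((derivedSeries_antitone _ hR).trans (derivedSeries_card_eq_bot inferInstance).le)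
  have hle : derivedSeries G ((p ^ n) ^ p).factorial ≤ P := by
    refine le_trans ?_ hker
    have := map_derivedSeries_le_derivedSeries φ.rangeRestrict ((p ^ n) ^ p).factorial
    rw [hB, le_bot_iff, Subgroup.map_eq_bot_iff, MonoidHom.ker_rangeRestrict] at this
    exact this
  exact derivedSeries_add_eq_bot P hle (derivedSeries_eq_bot_of_isPGroup hP β hβp n hβfix)

/-- Alperin's theorem. -/
theorem derivedSeries_eq_bot_of_solvable [Finite G] (hs : Group.IsSolvable G) (α : MulAut G)
    (hα : α ^ p = 1) (n : ℕ) (hfix : Nat.card {g : G // α g = g} = p ^ n) :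
    derivedSeries G (coreFreeBound p n + higman p) = ⊥ := by
  haveI := hs
  haveI := PSolvable.pPrimeCore_characteristic (p := p) (G := G)
  set Q := Cfsg.pPrimeCore p G with hQ
  have hbar : derivedSeries (G ⧸ Q) (coreFreeBound p n) = ⊥ :=
    derivedSeries_eq_bot_of_coreFree inferInstance PSolvable.pPrimeCore_quotient_eq_bot (quotAut α Q)
      (quotAut_pow_eq_one hα Q) n
      ((card_fix_quot_le α.toMonoidHom Q (quotAut α Q) (fun g => rfl)).trans hfix.le)
  have hle : derivedSeries G (coreFreeBound p n) ≤ Q := by
    have h1 := map_derivedSeries_le_derivedSeries (QuotientGroup.mk' Q) (coreFreeBound p n)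
    rw [hbar, le_bot_iff, Subgroup.map_eq_bot_iff, QuotientGroup.ker_mk'] at h1
    exact h1
  refine derivedSeries_add_eq_bot Q hle ?_
  set β := restrictAut α Q with hβ
  -- no fixed points on the `p'`-core
  have hfpf : ∀ x : Q, β x = x → x = 1 := by
    intro x hx
    let F : Subgroup G := MonoidHom.eqLocus α.toMonoidHom (MonoidHom.id G)
    have hxF : (x : G) ∈ F := congrArg Subtype.val hx
    have hF : Nat.card F = p ^ n := hfix
    have h1 : orderOf (x : G) ∣ p ^ n := by
      rw [← hF, ← Subgroup.orderOf_mk (H := F) (x : G) hxF]; exact orderOf_dvd_natCard _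
    have h2 : orderOf (x : G) ∣ Nat.card Q := by
      rw [Subgroup.orderOf_coe]; exact orderOf_dvd_natCard _
    have h3 : orderOf (x : G) = 1 :=
      Nat.eq_one_of_dvd_coprimes (PSolvable.pPrimeCore_coprime.symm.pow_left n) h1 h2
    exact Subtype.ext (orderOf_eq_one_iff.1 h3)
  by_cases hβ1 : β = 1
  · haveI : Subsingleton Q := ⟨fun a b => (hfpf a (by rw [hβ1]; rfl)).trans
      (hfpf b (by rw [hβ1]; rfl)).symm⟩
    exact Subsingleton.elim _ _
  · have hord : orderOf β = p := orderOf_eq_prime (restrictAut_pow_eq_one hα Q) hβ1
    refine le_bot_iff.1 ((Subgroup.derived_le_lower_central _).trans (le_of_eq ?_))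
    exact (S3779.result hp.out β hord hfpf).2.2

end Cfsg.Agent.Lib.AlperinFixed
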